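import Groth.Agent.Lib.IntClosFin.Main
import Groth.Agent.Lib.NormFin18.Field
import Mathlib.RingTheory.Ideal.MinimalPrime.Noetherian
import Mathlib.RingTheory.Noetherian.Basic
import Mathlib.RingTheory.RingHom.EssFiniteType
import Mathlib.RingTheory.Localization.FractionRing

/-!
# Finiteness of relative integral closures of reduced algebras of finite type over a field
-/

set_option autoImplicit false
universe u

namespace Groth.Agent.RepRing23

theorem finite_integralClosure_field (k D L : Type u) [Field k] [CommRing D] [IsDomain D] [Algebra k D]
    [Algebra.FiniteType k D] [Field L] [Algebra k L] [Algebra D L] [IsScalarTower k D L] [FaithfulSMul D L]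
    [Algebra.EssFiniteType k L] : Module.Finite D (integralClosure D L) := by
  let K := FractionRing D
  letI : Algebra K L := FractionRing.liftAlgebra D L
  haveI : IsScalarTower D K L := FractionRing.isScalarTower_liftAlgebra D L
  haveI : Algebra.EssFiniteType D L := Algebra.EssFiniteType.of_comp k D L
  haveI : Algebra.EssFiniteType K L := Algebra.EssFiniteType.of_comp D K L
  let M := algebraicClosure K L
  haveI : Module.Finite K M := NormFin18.finite_algebraicClosure K L
  haveI : Module.Finite D (integralClosure D M) := IntClosFin.finite_integralClosure k D K M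
  haveI : IsNoetherianRing D := Algebra.FiniteType.isNoetherianRing k D
  haveI : IsNoetherian D (integralClosure D M) := isNoetherian_of_isNoetherianRing_of_finite D _
  have hmem : ∀ y : integralClosure D L, (y : L) ∈ M := fun y => mem_algebraicClosure_iff'.2 (y.2.tower_top (A := K))
  let g : integralClosure D L →ₗ[D] integralClosure D M :=
    { toFun := fun y => ⟨⟨y, hmem y⟩,
        (isIntegral_algHom_iff (M.val.restrictScalars D) M.val.injective).1 y.2⟩
      map_add' := fun _ _ => rfl
      map_smul' := fun a y => Subtype.ext (Subtype.ext rfl) }
  exact Module.Finite.of_injective g fun a b h =>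
    Subtype.ext (congrArg (fun z : integralClosure D M => ((z : M) : L)) h :)

theorem finite_integralClosure_domain (k R S : Type u) [Field k] [CommRing R] [Algebra k R] [Algebra.FiniteType k R]
    [CommRing S] [IsDomain S] [Algebra k S] [Algebra.FiniteType k S] [Algebra R S] [IsScalarTower k R S] :
    Module.Finite R (integralClosure R S) := by
  let p : Ideal R := RingHom.ker (algebraMap R S)
  haveI : p.IsPrime := RingHom.ker_isPrime _
  let D := R ⧸ p
  let L := FractionRing S
  letI : Algebra D L := ((algebraMap S L).comp (RingHom.kerLift (algebraMap R S))).toAlgebra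
  haveI : IsScalarTower k D L := IsScalarTower.of_algebraMap_eq fun x => by
    show algebraMap k L x = algebraMap S L (algebraMap R S (algebraMap k R x))
    rw [← IsScalarTower.algebraMap_apply k R S, ← IsScalarTower.algebraMap_apply k S L]
  haveI : IsScalarTower R D L := IsScalarTower.of_algebraMap_eq fun x => by
    show algebraMap R L x = algebraMap S L (algebraMap R S x)
    rw [← IsScalarTower.algebraMap_apply R S L]
  haveI : FaithfulSMul D L := (faithfulSMul_iff_algebraMap_injective _ _).2
    ((IsFractionRing.injective S L).comp (RingHom.kerLift_injective (algebraMap R S)))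
  haveI : Algebra.EssFiniteType S L := Algebra.EssFiniteType.of_isLocalization L (nonZeroDivisors S)
  haveI : Algebra.EssFiniteType k L := Algebra.EssFiniteType.comp k S L
  haveI : Module.Finite D (integralClosure D L) := finite_integralClosure_field k D L
  haveI : Module.Finite R (integralClosure D L) := Module.Finite.trans D _
  haveI : IsNoetherianRing R := Algebra.FiniteType.isNoetherianRing k R
  haveI : IsNoetherian R (integralClosure D L) := isNoetherian_of_isNoetherianRing_of_finite R _
  let g : integralClosure R S →ₗ[R] integralClosure D L :=
    { toFun := fun y => ⟨algebraMap S L y, (y.2.map (IsScalarTower.toAlgHom R S L)).tower_top⟩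
      map_add' := fun x y => Subtype.ext (map_add (algebraMap S L) (x : S) (y : S))
      map_smul' := fun a y => Subtype.ext ((IsScalarTower.toAlgHom R S L).toLinearMap.map_smul a (y : S)) }
  exact Module.Finite.of_injective g fun x y h =>
    Subtype.ext (IsFractionRing.injective S L (congrArg Subtype.val h :))

theorem finite_integralClosure_reduced (k R S : Type u) [Field k] [CommRing R] [Algebra k R] [Algebra.FiniteType k R]
    [CommRing S] [IsReduced S] [Algebra k S] [Algebra.FiniteType k S] [Algebra R S] [IsScalarTower k R S] :
    Module.Finite R (integralClosure R S) := by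
  classical
  haveI : IsNoetherianRing S := Algebra.FiniteType.isNoetherianRing k S
  haveI : IsNoetherianRing R := Algebra.FiniteType.isNoetherianRing k R
  haveI : Finite (minimalPrimes S) := (minimalPrimes.finite_of_isNoetherianRing S).to_subtype
  haveI : ∀ P : minimalPrimes S, (P.1).IsPrime := fun P => P.2.1.1
  haveI : ∀ P : minimalPrimes S, Module.Finite R (integralClosure R (S ⧸ P.1)) := fun P =>
    finite_integralClosure_domain k R (S ⧸ P.1)
  haveI : ∀ P : minimalPrimes S, IsNoetherian R (integralClosure R (S ⧸ P.1)) := fun P =>
    isNoetherian_of_isNoetherianRing_of_finite R _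
  let g : integralClosure R S →ₗ[R] ((P : minimalPrimes S) → integralClosure R (S ⧸ P.1)) :=
    LinearMap.pi fun P =>
      (((Ideal.Quotient.mkₐ R P.1).comp (integralClosure R S).val).codRestrict _
        fun y => y.2.map (Ideal.Quotient.mkₐ R P.1)).toLinearMap
  refine Module.Finite.of_injective g fun x y h => Subtype.ext ?_
  rw [← sub_eq_zero]
  refine IsReduced.eq_zero _ ((mem_nilradical).1 ?_)
  rw [nilradical, Ideal.radical_eq_sInf, Ideal.mem_sInf]
  rintro 𝔮 ⟨-, h𝔮⟩
  haveI := h𝔮
  obtain ⟨𝔭, h𝔭, hle⟩ := Ideal.exists_minimalPrimes_le (I := ⊥) (J := 𝔮) bot_le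
  exact hle (Ideal.Quotient.eq.1 (congrArg Subtype.val (congrFun h ⟨𝔭, h𝔭⟩) :))

end Groth.Agent.RepRing23
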