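import Groth.Agent.Lib.Chevalley.Basic
import Mathlib.LinearAlgebra.Matrix.ToLin
import Mathlib.LinearAlgebra.Matrix.Charpoly.Coeff
import Mathlib.LinearAlgebra.FreeModule.Finite.Basic
import Mathlib.LinearAlgebra.Dimension.Free
import Mathlib.GroupTheory.Perm.Sign

/-!
# Principal minors of a corepresentation are traces of corepresentations
-/

set_option autoImplicit false
universe u v w

open scoped TensorProduct
open HopfRep Matrix

namespace Groth.Agent.RepRing23

variable {k : Type u} [Field k] {A : Type v} [CommRing A] [Bialgebra k A]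
variable {ι : Type w} [Fintype ι] [DecidableEq ι]

theorem isMul_iff {X : Matrix ι ι A} :
    Chevalley.IsMul (k := k) X ↔
      (Bialgebra.comulAlgHom k A).mapMatrix X =
          (Algebra.TensorProduct.includeLeft : A →ₐ[k] A ⊗[k] A).mapMatrix X *
            (Algebra.TensorProduct.includeRight : A →ₐ[k] A ⊗[k] A).mapMatrix X ∧
        (Bialgebra.counitAlgHom k A).mapMatrix X = 1 := by
  constructor
  · intro h
    refine ⟨Matrix.ext fun i j => ?_, Matrix.ext fun i j => ?_⟩
    · rw [Matrix.mul_apply]
      change CoalgebraStruct.comul (R := k) (X i j) = _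
      rw [h.comul]
      simp [Algebra.TensorProduct.tmul_mul_tmul]
    · rw [Matrix.one_apply]
      exact h.counit i j
  · rintro ⟨h1, h2⟩
    refine ⟨fun i j => ?_, fun i j => ?_⟩
    · have h := congrFun (congrFun h1 i) j
      rw [Matrix.mul_apply] at h
      refine h.trans ?_
      simp [Algebra.TensorProduct.tmul_mul_tmul]
    · have h := congrFun (congrFun h2 i) j
      rw [Matrix.one_apply] at h
      exact h

theorem exists_factor (E : Matrix ι ι k) (hE : E * E = E) :
    ∃ (r : ℕ) (U : Matrix ι (Fin r) k) (V : Matrix (Fin r) ι k), U * V = E ∧ V * U = 1 := by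
  let f := Matrix.toLin' E
  let N := LinearMap.range f
  let b := Module.finBasis k N
  let U : Matrix ι (Fin (Module.finrank k N)) k := LinearMap.toMatrix' (N.subtype ∘ₗ b.equivFun.symm.toLinearMap)
  let V : Matrix (Fin (Module.finrank k N)) ι k := LinearMap.toMatrix' (b.equivFun.toLinearMap ∘ₗ f.rangeRestrict)
  refine ⟨_, U, V, ?_, ?_⟩
  · rw [← LinearMap.toMatrix'_comp]
    refine (congrArg LinearMap.toMatrix' ?_).trans (LinearMap.toMatrix'_toLin' E)
    refine LinearMap.ext fun x => ?_
    simp [f]
  · rw [← LinearMap.toMatrix'_comp, ← LinearMap.toMatrix'_id]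
    refine congrArg LinearMap.toMatrix' ?_
    refine LinearMap.ext fun x => ?_
    obtain ⟨z, hz⟩ := (b.equivFun.symm x).2
    have h : f.rangeRestrict (b.equivFun.symm x : ι → k) = b.equivFun.symm x := Subtype.ext <| by
      show f (b.equivFun.symm x : ι → k) = _
      rw [← hz, ← LinearMap.comp_apply, ← Matrix.toLin'_mul, hE]
    show b.equivFun (f.rangeRestrict (b.equivFun.symm x : ι → k)) = x
    rw [h, LinearEquiv.apply_symm_apply]

/-- The trace of a corepresentation composed with an idempotent intertwiner is the trace of a corepresentation. -/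
theorem exists_isMul_trace_eq {X : Matrix ι ι A} (hX : Chevalley.IsMul (k := k) X) (E : Matrix ι ι k)
    (hE : E * E = E) (hEX : E.map (algebraMap k A) * X = X * E.map (algebraMap k A)) :
    ∃ (r : ℕ) (Y : Matrix (Fin r) (Fin r) A), Chevalley.IsMul (k := k) Y ∧
      Y.trace = (X * E.map (algebraMap k A)).trace := by
  obtain ⟨r, U, V, hUV, hVU⟩ := exists_factor E hE
  let U' := U.map (algebraMap k A)
  let V' := V.map (algebraMap k A)
  refine ⟨r, V' * X * U', ?_, ?_⟩
  · obtain ⟨h1, h2⟩ := isMul_iff.1 hX
    refine isMul_iff.2 ⟨?_, ?_⟩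
    · have hmap : ∀ {m n : Type w} (M : Matrix m n k), True := fun _ => trivial
      have e1 : ∀ (g : A →ₐ[k] A ⊗[k] A), (V' * X * U').map g =
          V.map (algebraMap k (A ⊗[k] A)) * X.map g * U.map (algebraMap k (A ⊗[k] A)) := fun g => by
        rw [Matrix.map_mul, Matrix.map_mul, Matrix.map_map, Matrix.map_map]
        rw [show (⇑g ∘ ⇑(algebraMap k A)) = algebraMap k (A ⊗[k] A) from funext g.commutes]
      have hEg : ∀ (g : A →ₐ[k] A ⊗[k] A), E.map (algebraMap k (A ⊗[k] A)) * X.map g =
          X.map g * E.map (algebraMap k (A ⊗[k] A)) := fun g => by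
        have h := congrArg (fun M => Matrix.map M g) hEX
        simp only [Matrix.map_mul, Matrix.map_map,
          show (⇑g ∘ ⇑(algebraMap k A)) = algebraMap k (A ⊗[k] A) from funext g.commutes] at h
        exact h
      have hVE : V.map (algebraMap k (A ⊗[k] A)) * E.map (algebraMap k (A ⊗[k] A)) = V.map (algebraMap k (A ⊗[k] A)) := by
        rw [← Matrix.map_mul, ← hUV, ← Matrix.mul_assoc, hVU, Matrix.one_mul]
      simp only [AlgHom.mapMatrix_apply] at h1 ⊢
      rw [e1, e1, e1, h1]
      set V'' := V.map (algebraMap k (A ⊗[k] A))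
      set U'' := U.map (algebraMap k (A ⊗[k] A))
      set E'' := E.map (algebraMap k (A ⊗[k] A)) with hE''
      set L := X.map (Algebra.TensorProduct.includeLeft : A →ₐ[k] A ⊗[k] A) with hL
      set R := X.map (Algebra.TensorProduct.includeRight : A →ₐ[k] A ⊗[k] A)
      have hUV'' : U'' * V'' = E'' := by rw [← Matrix.map_mul, hUV]
      calc V'' * (L * R) * U'' = V'' * E'' * (L * R) * U'' := by rw [hVE]
        _ = V'' * (E'' * L) * R * U'' := by simp only [Matrix.mul_assoc]
        _ = V'' * (L * E'') * R * U'' := by rw [hL, hE'', hEg]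
        _ = _ := by rw [← hUV'']; simp only [Matrix.mul_assoc]
    · simp only [AlgHom.mapMatrix_apply] at h2 ⊢
      rw [Matrix.map_mul, Matrix.map_mul, Matrix.map_map, Matrix.map_map, h2, Matrix.mul_one]
      rw [show (⇑(Bialgebra.counitAlgHom k A) ∘ ⇑(algebraMap k A)) = id from
        funext fun x => (Bialgebra.counitAlgHom k A).commutes x, Matrix.map_id, Matrix.map_id, hVU]
  · rw [Matrix.trace_mul_cycle, Matrix.trace_mul_comm]
    congr 2
    rw [← Matrix.map_mul, hUV]

variable (k) in
/-- The antisymmetriser on a tensor power. -/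
noncomputable def altE (j : ℕ) : Matrix (Fin j → ι) (Fin j → ι) k := fun p q =>
  (j.factorial : k)⁻¹ * ∑ σ : Equiv.Perm (Fin j), ((Equiv.Perm.sign σ : ℤ) : k) * if p = q ∘ σ then 1 else 0

variable [CharZero k]

theorem altE_mul_altE (j : ℕ) : altE (ι := ι) k j * altE k j = altE k j := by
  ext p r
  set s : Equiv.Perm (Fin j) → k := fun σ => ((Equiv.Perm.sign σ : ℤ) : k)
  set c : k := (j.factorial : k)⁻¹
  have hc : c * (j.factorial : k) = 1 := inv_mul_cancel₀ (Nat.cast_ne_zero.2 j.factorial_ne_zero)
  rw [Matrix.mul_apply]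
  have step : ∀ σ τ : Equiv.Perm (Fin j), (∑ q : Fin j → ι,
      (if p = q ∘ σ then (1 : k) else 0) * (if q = r ∘ τ then 1 else 0)) = if p = r ∘ ⇑(τ * σ) then 1 else 0 := by
    intro σ τ
    rw [Finset.sum_eq_single (r ∘ τ) (fun q _ hq => by simp [hq]) (by simp)]
    simp [Function.comp_assoc, Equiv.Perm.coe_mul]
  have hs : ∀ σ τ, s σ * s τ = s (τ * σ) := fun σ τ => by
    simp only [s]
    rw [map_mul, Units.val_mul, Int.cast_mul, mul_comm]
  calc ∑ q, altE k j p q * altE k j q r
      = c * c * ∑ τ, ∑ σ, s σ * s τ * ∑ q : Fin j → ι,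
          (if p = q ∘ σ then (1 : k) else 0) * (if q = r ∘ τ then 1 else 0) := by
        simp only [altE, s, c, Finset.mul_sum, Finset.sum_mul]
        rw [Finset.sum_comm]
        refine Finset.sum_congr rfl fun σ _ => ?_
        rw [Finset.sum_comm]
        exact Finset.sum_congr rfl fun τ _ => Finset.sum_congr rfl fun q _ => by ring
    _ = c * c * ∑ _σ : Equiv.Perm (Fin j), ∑ ρ, s ρ * if p = r ∘ ⇑ρ then 1 else 0 := by
        congr 1
        refine Finset.sum_congr rfl fun σ _ => ?_
        simp only [step, hs]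
        exact Equiv.sum_comp (Equiv.mulLeft σ) (fun ρ => s ρ * if p = r ∘ ⇑ρ then (1 : k) else 0)
    _ = altE k j p r := by
        rw [Finset.sum_const, Finset.card_univ, Fintype.card_perm, Fintype.card_fin, nsmul_eq_mul]
        show _ = c * _
        linear_combination (c * ∑ ρ : Equiv.Perm (Fin j), s ρ * if p = r ∘ ⇑ρ then 1 else 0) * hc

omit [CharZero k] in
theorem altE_comm (X : Matrix ι ι A) (j : ℕ) :
    (altE k j).map (algebraMap k A) * Chevalley.kpow X j = Chevalley.kpow X j * (altE k j).map (algebraMap k A) := by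
  ext p r
  simp only [Matrix.mul_apply, Matrix.map_apply, altE, map_mul, map_sum, Finset.mul_sum, Finset.sum_mul]
  rw [Finset.sum_comm]
  conv_rhs => rw [Finset.sum_comm]
  refine Finset.sum_congr rfl fun σ _ => ?_
  rw [Finset.sum_eq_single (p ∘ σ.symm) (fun q _ hq => by
      rw [if_neg (fun h => hq (by rw [h]; ext t; simp))]; simp) (by simp),
    Finset.sum_eq_single (r ∘ σ) (fun q _ hq => by simp [hq]) (by simp),
    if_pos (by ext t; simp), if_pos rfl]
  rw [mul_comm _ (Chevalley.kpow X j (p ∘ σ.symm) r)]
  congr 1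
  simp only [Chevalley.kpow, Function.comp_apply]
  rw [← Equiv.prod_comp σ (fun t => X (p (σ.symm t)) (r t))]
  simp

theorem trace_kpow_mul_altE (X : Matrix ι ι A) (j : ℕ) :
    (Chevalley.kpow X j * (altE k j).map (algebraMap k A)).trace =
      ∑ s ∈ Finset.univ.powersetCard j,
        (X.submatrix (Subtype.val : s → ι) (Subtype.val : s → ι)).det := by
  set c : A := algebraMap k A (j.factorial : k)⁻¹
  have h1 : (Chevalley.kpow X j * (altE k j).map (algebraMap k A)).trace =
      c * ∑ p : Fin j → ι, (X.submatrix p p).det := by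
    simp only [Matrix.trace, Matrix.diag, Matrix.mul_apply, Matrix.map_apply]
    rw [Finset.mul_sum]
    refine Finset.sum_congr rfl fun p _ => ?_
    rw [← Matrix.det_transpose, Matrix.det_apply', Finset.mul_sum]
    simp only [altE, map_mul, map_sum, Finset.mul_sum]
    rw [Finset.sum_comm]
    refine Finset.sum_congr rfl fun σ _ => ?_
    rw [Finset.sum_eq_single (p ∘ σ) (fun q _ hq => by simp [hq]) (by simp), if_pos rfl]
    simp only [map_intCast, map_one, mul_one, Chevalley.kpow, Matrix.transpose_apply, Matrix.submatrix_apply,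
      Function.comp_apply]
    ring
  have hcard : ∀ s : Finset ι,
      (∑ p ∈ Finset.univ.filter (fun p : Fin j → ι => Finset.univ.image p = s), (X.submatrix p p).det) =
        if s.card = j then (j.factorial : A) * (X.submatrix (Subtype.val : s → ι) (Subtype.val : s → ι)).det
        else 0 := by
    intro s
    split_ifs with hs
    · have e0 : Fin j ≃ s := (Finset.equivFinOfCardEq hs).symm
      rw [show (j.factorial : A) * _ = ∑ _e : Fin j ≃ s, (X.submatrix (Subtype.val : s → ι) (Subtype.val : s → ι)).det
        by rw [Finset.sum_const, Finset.card_univ, Fintype.card_equiv e0, Fintype.card_fin, nsmul_eq_mul]]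
      symm
      refine Finset.sum_bij (fun e _ => (fun t => (e t : ι))) (fun e _ => ?_) (fun e₁ _ e₂ _ h => ?_)
        (fun p hp => ?_) (fun e _ => ?_)
      · rw [Finset.mem_filter]
        refine ⟨Finset.mem_univ _, Finset.ext fun a => ?_⟩
        simp only [Finset.mem_image, Finset.mem_univ, true_and]
        exact ⟨fun ⟨t, ht⟩ => ht ▸ (e t).2, fun ha => ⟨e.symm ⟨a, ha⟩, by simp⟩⟩
      · exact Equiv.ext fun t => Subtype.ext (congrFun h t)
      · rw [Finset.mem_filter] at hp
        have hmem : ∀ t, p t ∈ s := fun t => hp.2 ▸ Finset.mem_image_of_mem p (Finset.mem_univ t)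
        have hinj : Function.Injective p := by
          have := Finset.card_image_iff.1 (show (Finset.univ.image p).card = (Finset.univ : Finset (Fin j)).card by
            rw [hp.2, hs, Finset.card_univ, Fintype.card_fin])
          exact fun a b h => this (Finset.mem_coe.2 (Finset.mem_univ a)) (Finset.mem_coe.2 (Finset.mem_univ b)) h
        refine ⟨Equiv.ofBijective (fun t => (⟨p t, hmem t⟩ : s)) ?_, Finset.mem_univ _, rfl⟩
        rw [Fintype.bijective_iff_injective_and_card]
        exact ⟨fun a b h => hinj (congrArg Subtype.val h), by simp [hs]⟩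
      · exact (Matrix.det_submatrix_equiv_self e _).symm.trans (by rw [Matrix.submatrix_submatrix]; rfl)
    · refine Finset.sum_eq_zero fun p hp => ?_
      rw [Finset.mem_filter] at hp
      have hinj : ¬ Function.Injective p := fun h => hs (by
        rw [← hp.2, Finset.card_image_of_injective _ h, Finset.card_univ, Fintype.card_fin])
      obtain ⟨a, b, hab, hne⟩ := Function.not_injective_iff.1 hinj
      exact Matrix.det_zero_of_row_eq hne (funext fun t => by simp [hab])
  rw [h1, ← Finset.sum_fiberwise Finset.univ (fun p : Fin j → ι => Finset.univ.image p),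
    Finset.sum_congr rfl (fun s _ => hcard s), ← Finset.sum_filter, Finset.mul_sum,
    show (Finset.univ.filter fun s : Finset ι => s.card = j) = Finset.univ.powersetCard j by
      ext s; simp [Finset.mem_powersetCard]]
  refine Finset.sum_congr rfl fun s _ => ?_
  rw [← mul_assoc, ← map_natCast (algebraMap k A), ← map_mul,
    inv_mul_cancel₀ (Nat.cast_ne_zero.2 j.factorial_ne_zero), map_one, one_mul]

theorem exists_isMul_trace_minors {X : Matrix ι ι A} (hX : Chevalley.IsMul (k := k) X) (j : ℕ) :
    ∃ (r : ℕ) (Y : Matrix (Fin r) (Fin r) A), Chevalley.IsMul (k := k) Y ∧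
      Y.trace = ∑ s ∈ Finset.univ.powersetCard j,
        (X.submatrix (Subtype.val : s → ι) (Subtype.val : s → ι)).det := by
  obtain ⟨r, Y, hY, h⟩ := exists_isMul_trace_eq (hX.kpow j) (altE k j) (altE_mul_altE j) (altE_comm X j)
  exact ⟨r, Y, hY, h.trans (trace_kpow_mul_altE X j)⟩

end Groth.Agent.RepRing23
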